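import Cfsg.Agent.H232.RowTools_m3
import Cfsg.Agent.KFacts.M24Two.Orders
import Cfsg.Agent.KFacts.J2.Basic
import Cfsg.Agent.KFacts.J3
import Cfsg.Agent.KFacts.HS.Sheet2_m3
import Cfsg.Agent.KFacts.He.Classes
import Cfsg.Agent.KFacts.He.TwoA_m3
import Cfsg.Agent.CpAutHe.Seven
import Cfsg.Agent.KFacts.Co3.Syl
import Cfsg.Agent.SporRec.Co3.Model
import Cfsg.Agent.KFacts.ON.Words_m3
import Cfsg.Agent.Prune
set_option linter.all false

section
prune_inst 0x7f00000000000000000000000000000000000000000000000000000000000000000000000000000000000000000000000000000000000000000000000000000000000000000000000000000000000000003fffffffffffffffffffffffffffbeffbdffffffff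

-- part: H232/SporM
section
set_option linter.all false
open scoped Cfsg.Agent.FastGrp

/-!
# Theorem T: the Mathieu groups at `p = 3`

`9` does not divide the orders of the involution centralizers of `M24`, hence of its subgroups `M11`, `M12`, `M22`, `M23`.
-/

set_option autoImplicit false

namespace Cfsg.Agent.H232.Row

open Cfsg Subgroup

theorem card_conj {X : Type*} [Group X] {g u v : X} (h : g * u * g⁻¹ = v) :
    Nat.card ↥(centralizer ({v} : Set X)) = Nat.card ↥(centralizer ({u} : Set X)) := by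
  rw [← h]
  exact card_centralizer_congr (MulAut.conj g) u

theorem noSq_m24 : NoSq 3 ↥M24 := by
  intro t ht hd
  have h2 : t * t = 1 := by
    have := pow_orderOf_eq_one t
    rwa [ht, pow_two] at this
  have h1 : t ≠ 1 := by
    rintro rfl
    rw [orderOf_one] at ht
    exact absurd ht (by norm_num)
  rcases KFacts.M24Two.Count.conj_or t h2 h1 with ⟨g, hg⟩ | ⟨g, hg⟩
  · have h3 := card_conj hg
    rw [KFacts.M24Two.Orders.card_centralizer_z] at h3
    rw [← h3] at hd
    exact absurd hd (by norm_num)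
  · have h3 := card_conj hg
    rw [KFacts.M24Two.Orders.card_centralizer_w] at h3
    rw [← h3] at hd
    exact absurd hd (by norm_num)

theorem noSq_of_le {K : Type*} [Group K] {M : Subgroup (Equiv.Perm GolayPt)} (hM : M ≤ M24) (e : K ≃* ↥M) :
    NoSq 3 K :=
  NoSq.of_injective ((Subgroup.inclusion hM).comp e.toMonoidHom)
    ((Subgroup.inclusion_injective hM).comp e.injective) noSq_m24

theorem kill_m24 {K : Type*} [Group K] (h : Spor.IsoM24 K) : Kill 3 K := by
  obtain ⟨e⟩ := h
  exact Kill.of_all (noSq_of_le le_rfl e)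

theorem kill_m23 {K : Type*} [Group K] (h : Spor.IsoM23 K) : Kill 3 K := by
  obtain ⟨e⟩ := h
  exact Kill.of_all (noSq_of_le inf_le_left e)

theorem kill_m22 {K : Type*} [Group K] (h : Spor.IsoM22 K) : Kill 3 K := by
  obtain ⟨e⟩ := h
  exact Kill.of_all (noSq_of_le (inf_le_left.trans inf_le_left) e)

theorem kill_m12 {K : Type*} [Group K] (h : Spor.IsoM12 K) : Kill 3 K := by
  obtain ⟨e⟩ := h
  exact Kill.of_all (noSq_of_le inf_le_left e)

theorem kill_m11 {K : Type*} [Group K] (h : Spor.IsoM11 K) : Kill 3 K := by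
  obtain ⟨e⟩ := h
  exact Kill.of_all (noSq_of_le (inf_le_left.trans inf_le_left) e)

end Cfsg.Agent.H232.Row
end

-- part: H232/SporA
section
set_option linter.all false
open scoped Cfsg.Agent.FastGrp

/-!
# Theorem T: an involution `t` with `p ∣ |C(t)|`, `p ^ 2 ∤ |C(t)|`: J2, J3, HS, He, Co3, O'N
-/

set_option autoImplicit false

namespace Cfsg.Agent.H232.Row

open Cfsg Subgroup

theorem ord_two {X : Type*} [Group X] {x : X} (h : x * x = 1) (h1 : x ≠ 1) : orderOf x = 2 :=
  orderOf_eq_prime (by rw [pow_two]; exact h) h1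

theorem ne_one_of_card {X : Type*} [Group X] {x : X} {N : ℕ} (h : Nat.card ↥(centralizer ({x} : Set X)) = N)
    (hN : Nat.card X ≠ N) : x ≠ 1 := by
  rintro rfl
  apply hN
  rw [← h]
  have h1 : centralizer ({(1 : X)} : Set X) = ⊤ := by
    rw [eq_top_iff]
    intro y _
    rw [mem_centralizer_singleton_iff, mul_one, one_mul]
  rw [h1, Subgroup.card_top]

/-- `p ^ 2 ∤ |C|` if the elements of odd order of `C` lie in a subgroup `L` with `p ^ 2 ∤ |L|` -/
theorem not_sq_of_sub {X : Type*} [Group X] [Finite X] {p : ℕ} [hp : Fact p.Prime] {C L : Subgroup X}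
    (h : ∀ x ∈ C, ∀ n : ℕ, x ^ p ^ n = 1 → x ∈ L) (hL : ¬ p ^ 2 ∣ Nat.card L) : ¬ p ^ 2 ∣ Nat.card C := by
  intro hd
  obtain ⟨P, hP⟩ := Sylow.exists_subgroup_card_pow_prime (G := ↥C) p hd
  apply hL
  have h1 : P.map C.subtype ≤ L := by
    rintro _ ⟨x, hx, rfl⟩
    have h2 : (⟨x, hx⟩ : P) ^ Nat.card P = 1 := pow_card_eq_one'
    rw [hP] at h2
    have h3 : x ^ p ^ 2 = 1 := congrArg Subtype.val h2
    exact h _ x.2 2 (congrArg Subtype.val h3)
  have h2 := Subgroup.card_dvd_of_le h1
  rwa [Subgroup.card_map_of_injective C.subtype_injective, hP] at h2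

theorem kill_j2 {K : Type*} [Group K] (h : Spor.IsoJ2 K) : Kill 3 K ∧ Kill 5 K := by
  obtain ⟨e⟩ := h
  obtain ⟨t, u, Q, v, ρ, D⟩ := KFacts.J2.Basic.exists_dat
  have h1 : orderOf (e.symm t) = 2 := by rw [MulEquiv.orderOf_eq]; exact D.orderOf_t
  have h2 := card_centralizer_congr e.symm t
  rw [D.cardC] at h2
  exact ⟨Kill.of_card h1 h2 (by norm_num) (by norm_num), Kill.of_card h1 h2 (by norm_num) (by norm_num)⟩

theorem kill_j3 {K : Type*} [Group K] (h : Spor.IsoJ3 K) : Kill 3 K := by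
  obtain ⟨-, z, Q, v, ρ, n, u, F⟩ := KFacts.J3.exists_facts h
  refine Kill.of_card (t := z) ?_ F.card_C (by norm_num) (by norm_num)
  refine ord_two (congrArg Subtype.val F.model.z_sq) ?_
  intro h1
  exact F.model.z_ne (Subtype.ext h1)

theorem kill_hs {K : Type*} [Group K] (h : Spor.IsoHS K) : Kill 3 K ∧ Kill 5 K := by
  obtain ⟨D⟩ := KFacts.HS.exists_mod h
  have h1 : orderOf D.z = 2 := ord_two D.zz D.z1
  exact ⟨Kill.of_card h1 D.card_centralizer (by norm_num) (by norm_num),
    Kill.of_card h1 D.card_centralizer (by norm_num) (by norm_num)⟩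

theorem kill_he {K : Type*} [Group K] (h : Spor.IsoHe K) : Kill 3 K ∧ Kill 5 K ∧ Kill 7 K := by
  obtain ⟨e⟩ := h
  have hfin : Finite Spor.He := Nat.finite_of_card_ne_zero (by rw [KFacts.He.Classes.card_he]; norm_num)
  have hfinK : Finite K := Finite.of_equiv _ e.symm.toEquiv
  have h37 : Kill 3 Spor.He ∧ Kill 7 Spor.He := by
    have h1 : Nat.card ↥(centralizer ({KFacts.He.Lv.gn .d} : Set Spor.He)) = 21504 := by
      obtain ⟨g, hg⟩ := KFacts.He.Classes.z_d
      have h2 := card_conj hg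
      rw [KFacts.He.Classes.card_centralizer] at h2
      exact h2
    have h2 : orderOf (KFacts.He.Lv.gn .d) = 2 := ord_two (KFacts.He.TwoACent.gn_mul_self _)
      (ne_one_of_card h1 (by rw [KFacts.He.Classes.card_he]; norm_num))
    exact ⟨Kill.of_card h2 h1 (by norm_num) (by norm_num), Kill.of_card h2 h1 (by norm_num) (by norm_num)⟩
  have hf5 : Fact (Nat.Prime 5) := ⟨by norm_num⟩
  have hf3 : Fact (Nat.Prime 3) := ⟨by norm_num⟩
  have hf7 : Fact (Nat.Prime 7) := ⟨by norm_num⟩
  have h5 : Kill 5 Spor.He := by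
    have hle : KFacts.He.TwoACent.L ≤ centralizer ({KFacts.He.Lv.gn .a} : Set Spor.He) := by
      intro x hx
      rw [mem_centralizer_singleton_iff]
      exact KFacts.He.TwoACent.L_comm_a hx
    refine Or.inr (Or.inl ⟨KFacts.He.Lv.gn .a, ord_two (KFacts.He.TwoACent.gn_mul_self _)
      KFacts.He.TwoACent.a_ne_one, ?_, ?_⟩)
    · refine dvd_trans ?_ (Subgroup.card_dvd_of_le hle)
      rw [CpAutHe.Seven.card_L]
      norm_num
    · refine not_sq_of_sub (L := KFacts.He.TwoACent.L) ?_ (by rw [CpAutHe.Seven.card_L]; norm_num)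
      intro x hx n hn
      rw [mem_centralizer_singleton_iff] at hx
      rcases KFacts.He.TwoACent.two hx hx with h | h | h
      · exact h
      · exact h
      · have hodd : Odd (5 ^ n) := Odd.pow (by decide)
        obtain ⟨m, hm⟩ := hodd
        have e1 : x = (x * x) ^ (m + 1) := by
          rw [← pow_two, ← pow_mul, show 2 * (m + 1) = 5 ^ n + 1 by omega, pow_succ, hn, one_mul]
        rw [e1]
        exact Subgroup.pow_mem _ h _
  exact ⟨h37.1.congr e, h5.congr e, h37.2.congr e⟩

theorem kill_co3 {K : Type*} [Group K] (h : Spor.IsoCo3 K) : Kill 5 K := by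
  obtain ⟨e⟩ := h
  let e' : SporRec.Co3.Chain.G3 ≃* K := Cfsg.Agent.SporRec.Co3.Model.equivCo3.trans e.symm
  have h2 := card_centralizer_congr e' SporRec.Co3.Ident.Z
  rw [KFacts.Co3.Syl.card_Z] at h2
  refine Kill.of_card (t := e' SporRec.Co3.Ident.Z) ?_ h2 (by norm_num) (by norm_num)
  rw [MulEquiv.orderOf_eq]
  exact ord_two SporRec.Co3.Ident.Z_sq SporRec.Co3.Ident.Z_ne

theorem kill_on {K : Type*} [Group K] (h : Spor.IsoON K) : Kill 7 K := by
  obtain ⟨e⟩ := h
  have h2 := card_centralizer_congr e.symm (SporadicB.ON45Word.on .f)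
  rw [KFacts.ON.Cent.card_cent] at h2
  refine Kill.of_card (t := e.symm (SporadicB.ON45Word.on .f)) ?_ h2 (by norm_num) (by norm_num)
  rw [MulEquiv.orderOf_eq]
  refine ord_two (ONType.TupleClass.ff KFacts.ON.Cent.hON.1) (ne_one_of_card KFacts.ON.Cent.card_cent ?_)
  rw [KFacts.ON.Cent.hON.2]
  norm_num

end Cfsg.Agent.H232.Row
end
end
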